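import Groth.Agent.Lib.StrictLim24.Main
import Groth.Agent.Lib.EtAcyc24.Criterion
import Groth.Agent.S0073

/-! # The unit and higher direct images read on a strict localisation -/

set_option autoImplicit false
universe u
set_option backward.isDefEq.respectTransparency.types false
set_option linter.style.haveILetI false

open CategoryTheory CategoryTheory.Limits AlgebraicGeometry Opposite ZeroObject

namespace Groth.Agent.NearLA6

open Groth.Agent.EtStalk Groth.Agent.StrictLim24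

/-- One geometric point over each point detects isomorphisms. -/
theorem isIso_of_points {X : Scheme.{u}} {F G : EtCoh.Ab X} (a : F ⟶ G)
    (h : ∀ z : X, ∃ (Ω : Type u) (_ : Field Ω) (_ : IsSepClosed Ω) (ξ : Spec (CommRingCat.of Ω) ⟶ X),
      ξ default = z ∧ Function.Bijective ((EtCoh.stalk ξ).map a)) : IsIso a := by
  have hfib : ∀ (U : X.Etale) (x : U.left), ∃ (Ω : Type u) (_ : Field Ω) (_ : IsSepClosed Ω)
      (ξ : Spec (CommRingCat.of Ω) ⟶ X) (φ : fib ξ U),
        fibPt φ = x ∧ Function.Bijective ((EtCoh.stalk ξ).map a) := fun U x => by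
    obtain ⟨Ω, _, _, ξ, hξ, hb⟩ := h (U.hom x)
    obtain ⟨φ, hφ⟩ := Scheme.pointSmallEtaleFiberObjToPreimage_surjective ξ hξ U ⟨x, rfl⟩
    exact ⟨Ω, inferInstance, inferInstance, ξ, φ, congrArg Subtype.val hφ, hb⟩
  have hinj : ∀ U, Function.Injective (a.hom.app U) := by
    intro U s t hst
    refine eq_of_agree F fun x => ?_
    obtain ⟨Ω, _, _, ξ, φ, hφ, hb⟩ := hfib U.unop x
    refine hφ ▸ (mem_agree_iff_germ F φ s t).2 (hb.1 ?_)
    rw [germ_nat, germ_nat, hst]
  have : Mono a := (mono_iff_app_injective a).2 hinj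
  suffices Epi a from isIso_of_mono_of_epi a
  rw [← Sheaf.isLocallySurjective_iff_epi']
  refine ⟨fun {U} s => ?_⟩
  rw [Groth.Agent.EtSite.mem_et_iff]
  intro x
  obtain ⟨Ω, _, _, ξ, φ, hφ, hb⟩ := hfib U x
  obtain ⟨q, hq⟩ := hb.2 (germ ξ G φ s)
  obtain ⟨V, y, t, rfl⟩ := germ_surjective ξ F q
  rw [germ_nat] at hq
  obtain ⟨⟨W, z⟩, ⟨gV, hgV⟩, ⟨gU, hgU⟩, -⟩ :=
    IsCofilteredOrEmpty.cone_objs (C := (Scheme.pointSmallEtale ξ).fiber.Elements) ⟨V, y⟩ ⟨U, φ⟩
  dsimp at hgV hgU
  rw [← hgV, ← germ_map, ← hgU, ← germ_map, germ_eq_iff] at hq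
  obtain ⟨W', g', z', hz', he⟩ := hq
  refine ⟨W', g' ≫ gU, fibPt z', ⟨F.obj.map (g' ≫ gV).op t, ?_⟩, ?_⟩
  · rw [op_comp, F.obj.map_comp, ConcreteCategory.comp_apply]
    rw [← ConcreteCategory.comp_apply, ← ConcreteCategory.comp_apply, a.hom.naturality,
      a.hom.naturality_assoc, ConcreteCategory.comp_apply, ConcreteCategory.comp_apply]
    simpa [op_comp] using he
  · have e : (Scheme.pointSmallEtale ξ).fiber.map (g' ≫ gU) z' = φ := by
      rw [← hgU, ← hz', Functor.map_comp]; rfl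
    exact Eq.trans (congrArg fibPt e) hφ

/-- One geometric point over each point detects zero sheaves. -/
theorem isZero_of_points {X : Scheme.{u}} (F : EtCoh.Ab X)
    (h : ∀ z : X, ∃ (Ω : Type u) (_ : Field Ω) (_ : IsSepClosed Ω) (ξ : Spec (CommRingCat.of Ω) ⟶ X),
      ξ default = z ∧ IsZero ((EtCoh.stalk ξ).obj F)) : IsZero F := by
  haveI : IsIso (0 : F ⟶ (0 : EtCoh.Ab X)) := isIso_of_points _ fun z => by
    obtain ⟨Ω, _, _, ξ, hξ, hz⟩ := h z
    refine ⟨Ω, inferInstance, inferInstance, ξ, hξ, ?_⟩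
    have h0 : IsZero ((EtCoh.stalk ξ).obj (0 : EtCoh.Ab X)) := (EtCoh.stalk ξ).map_isZero (isZero_zero _)
    haveI := AddCommGrpCat.subsingleton_of_isZero hz
    haveI := AddCommGrpCat.subsingleton_of_isZero h0
    exact ⟨Function.injective_of_subsingleton _, fun b => ⟨0, Subsingleton.elim _ _⟩⟩
  exact (isZero_zero _).of_iso (asIso (0 : F ⟶ (0 : EtCoh.Ab X)))

variable {A B C : Scheme.{u}}

/-- A morphism on global sections. -/
noncomputable def appTop {X : Scheme.{u}} {K L : EtCoh.Ab X} (a : K ⟶ L) :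
    K.obj.obj (op (EtCoh.top X)) → L.obj.obj (op (EtCoh.top X)) :=
  fun z => a.hom.app (op (EtCoh.top X)) z

theorem appTop_eq {X : Scheme.{u}} {K L : EtCoh.Ab X} (a : K ⟶ L) (z : K.obj.obj (op (EtCoh.top X))) :
    appTop a z = a.hom.app (op (EtCoh.top X)) z := rfl

theorem bijective_appTop {X : Scheme.{u}} {K L : EtCoh.Ab X} (i : K ≅ L) : Function.Bijective (appTop i.hom) :=
  EtAcyc24.bijective_app i _

theorem transpose_app {A B : Scheme.{u}} (v : A ⟶ B) {M : EtCoh.Ab B} {H : EtCoh.Ab A} (a : (EtCoh.pull v).obj M ⟶ H)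
    {V : B.Etale} (x : M.obj.obj (op V)) :
    ((EtCoh.pullPushAdj v).homEquiv M H a).hom.app (op V) x =
      a.hom.app (op ((EtCoh.bc v).obj V)) (((EtCoh.pullPushAdj v).unit.app M).hom.app (op V) x) := by
  rw [Adjunction.homEquiv_unit]
  rfl

theorem subsingleton_H_of_iso {X : Scheme.{u}} {M N : EtCoh.Ab X} (i : M ≅ N) (q : ℕ) (h : Subsingleton (EtCoh.H X M q)) :
    IsZero ((EtCoh.HF X q).obj N) := by
  haveI : Subsingleton ((EtCoh.HF X q).obj M) := h
  exact (AddCommGrpCat.isZero_of_subsingleton ((EtCoh.HF X q).obj M)).of_iso ((EtCoh.HF X q).mapIso i).symm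

theorem sec_unit_aux (v : A ⟶ B) (u : B ⟶ C) (w : A ⟶ C) (e : v ≫ u = w) (F : EtCoh.Ab C) (U : C.Etale)
    (y : A ⟶ ((EtCoh.bc u).obj U).left) (hy : y ≫ ((EtCoh.bc u).obj U).hom = v)
    (hy' : (y ≫ pullback.fst U.hom u) ≫ U.hom = w) (s : F.obj.obj (op U))
    (a : (EtCoh.pull v).obj ((EtCoh.pull u).obj F) ⟶ (EtCoh.pull w).obj F)
    (hη : (EtCoh.pullPushAdj u).unit.app F ≫ (EtCoh.push u).map ((EtCoh.pullPushAdj v).homEquiv _ _ a) ≫
      (EtLim24.pc v u w e).hom.app _ = (EtCoh.pullPushAdj w).unit.app F) :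
    a.hom.app (op (EtCoh.top A))
        (sec v ((EtCoh.pull u).obj F) ((EtCoh.bc u).obj U) y hy
          (((EtCoh.pullPushAdj u).unit.app F).hom.app (op U) s)) =
      sec w F U (y ≫ pullback.fst U.hom u) hy' s := by
  let d : ((EtCoh.pull w).obj F).obj.obj (op ((EtCoh.bc v).obj ((EtCoh.bc u).obj U))) :=
    ((EtCoh.pullPushAdj v).homEquiv _ _ a).hom.app (op ((EtCoh.bc u).obj U)) (((EtCoh.pullPushAdj u).unit.app F).hom.app (op U) s)
  have hd : ((EtCoh.pull w).obj F).obj.map ((EtLim24.bcc v u w e).inv.app U).op d =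
      ((EtCoh.pullPushAdj w).unit.app F).hom.app (op U) s := by
    refine (EtLim24.pc_app v u w e _ U d).symm.trans ?_
    exact congrArg (fun m : F ⟶ (EtCoh.push w).obj ((EtCoh.pull w).obj F) => m.hom.app (op U) s) hη
  have hd' : d = ((EtCoh.pull w).obj F).obj.map ((EtLim24.bcc v u w e).hom.app U).op
      (((EtCoh.pullPushAdj w).unit.app F).hom.app (op U) s) := by
    rw [← hd]
    refine Eq.symm ((Functor.map_comp_apply ((EtCoh.pull w).obj F).obj ((EtLim24.bcc v u w e).inv.app U).op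
      ((EtLim24.bcc v u w e).hom.app U).op d).symm.trans ?_)
    rw [← op_comp, Iso.hom_inv_id_app, op_id]
    exact ConcreteCategory.congr_hom (((EtCoh.pull w).obj F).obj.map_id _) d
  rw [sec_apply]
  refine (NatTrans.naturality_apply a.hom
    (topLift v ((EtCoh.bc u).obj U) y hy).op _).trans ?_
  refine (congrArg (((EtCoh.pull w).obj F).obj.map (topLift v ((EtCoh.bc u).obj U) y hy).op)
    (transpose_app v a _).symm).trans ?_
  refine (congrArg (((EtCoh.pull w).obj F).obj.map (topLift v ((EtCoh.bc u).obj U) y hy).op) hd').trans ?_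
  rw [sec_apply, ← Functor.map_comp_apply, ← op_comp]
  refine congrArg (fun m : EtCoh.top A ⟶ (EtCoh.bc w).obj U => ((EtCoh.pull w).obj F).obj.map m.op _) ?_
  refine EtLim24.bc_hom_ext ?_
  refine Eq.trans ?_ (topLift_fst w U (y ≫ pullback.fst U.hom u) hy').symm
  simp only [EtLim24.comp_left', Category.assoc]
  refine (congrArg (fun t => (topLift v ((EtCoh.bc u).obj U) y hy).left ≫ t)
    (EtLim24.bcc_hom_left_fst v u w e U)).trans ?_
  exact (Category.assoc _ _ _).symm.trans (congrArg (· ≫ pullback.fst U.hom u) (topLift_fst v _ y hy))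

theorem transpose_pullT (v : A ⟶ B) (u : B ⟶ C) (w : A ⟶ C) (e : v ≫ u = w) (F : EtCoh.Ab C) :
    (EtCoh.pullPushAdj u).unit.app F ≫
      (EtCoh.push u).map ((EtCoh.pullPushAdj v).homEquiv _ _ ((EtLim24.pullT v u w e).inv.app F)) ≫
      (EtLim24.pc v u w e).hom.app _ = (EtCoh.pullPushAdj w).unit.app F := by
  have h := EtLim24.transpose_comp v u w e (𝟙 ((EtCoh.pull u).obj F)) ((EtLim24.pullT v u w e).inv.app F)
  rw [Adjunction.homEquiv_id] at h
  refine h.trans ?_
  rw [← (EtCoh.pullPushAdj w).homEquiv_id]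
  refine congrArg ((EtCoh.pullPushAdj w).homEquiv F _) ?_
  rw [CategoryTheory.Functor.map_id]
  erw [Category.id_comp]
  exact Iso.hom_inv_id_app _ _

/-- The identification of sections of an iterated inverse image with those along the composite. -/
noncomputable def jmap (v : A ⟶ B) (u : B ⟶ C) (w : A ⟶ C) (e : v ≫ u = w) (G : EtCoh.Ab C) :
    ((EtCoh.pull v).obj ((EtCoh.pull u).obj G)).obj.obj (op (EtCoh.top A)) →
      ((EtCoh.pull w).obj G).obj.obj (op (EtCoh.top A)) :=
  appTop (X := A) ((EtLim24.pullT v u w e).inv.app G)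

theorem bijective_jmap (v : A ⟶ B) (u : B ⟶ C) (w : A ⟶ C) (e : v ≫ u = w) (G : EtCoh.Ab C) :
    Function.Bijective (jmap v u w e G) :=
  bijective_appTop ((EtLim24.pullT v u w e).app G).symm

/-- The section of an iterated inverse image. -/
theorem sec_unit (v : A ⟶ B) (u : B ⟶ C) (w : A ⟶ C) (e : v ≫ u = w) (F : EtCoh.Ab C) (U : C.Etale)
    (y : A ⟶ ((EtCoh.bc u).obj U).left) (hy : y ≫ ((EtCoh.bc u).obj U).hom = v)
    (hy' : (y ≫ pullback.fst U.hom u) ≫ U.hom = w) (s : F.obj.obj (op U)) :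
    jmap v u w e F (sec v ((EtCoh.pull u).obj F) ((EtCoh.bc u).obj U) y hy
          (((EtCoh.pullPushAdj u).unit.app F).hom.app (op U) s)) =
      sec w F U (y ≫ pullback.fst U.hom u) hy' s :=
  (appTop_eq _ _).trans (sec_unit_aux v u w e F U y hy hy' s _ (transpose_pullT v u w e F))

theorem bijective_of_eq {α β γ : Type*} {F : α → γ} {G : α → γ} (e : ∀ x, F x = G x) (u : α → β) (m : β → γ)
    (hu : Function.Bijective u) (hm : Function.Bijective m) (hG : ∀ x, G x = m (u x)) : Function.Bijective F := by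
  rw [show F = m ∘ u from funext fun x => (e x).trans (hG x)]
  exact hm.comp hu

/-- The inverse image of a global section. -/
theorem bijective_sec_top (v : A ⟶ B) (G : EtCoh.Ab B)
    (h : Function.Bijective (EtCore.Hpull v G 0)) :
    Function.Bijective (sec v G (EtCoh.top B) v (Category.comp_id v)) := by
  have h1 := EtAcyc24.bijective_unit_top v G h
  rw [EtAcyc24.uHom] at h1
  exact bijective_of_eq (fun x => sec_apply v G (EtCoh.top B) v (Category.comp_id v) x)
    (fun x => ((EtCoh.pullPushAdj v).unit.app G).hom.app (op (EtCoh.top B)) x)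
    (fun x => ((EtCoh.pull v).obj G).obj.map (topUp v).op x) h1
    (StrictSys.map_topUp_injective v ((EtCoh.pull v).obj G)) (fun _ => rfl)

variable {X' Xt : Scheme.{u}} {R : Type u} [CommRing R] [HenselianLocalRing R]
  [IsSepClosed (IsLocalRing.ResidueField R)] {σ : Spec (CommRingCat.of R) ⟶ X'}
  (h : Xt ⟶ X') [QuasiCompact h] [QuasiSeparated h]

/-- Vanishing of stalks of higher direct images of an inverse image. -/
theorem isZero_stalk_Rpush (T : StrictSys σ) (G : EtCoh.Ab X') (q : ℕ) (hq : 0 < q)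
    (hb : Function.Bijective (EtCore.Hpull (pullback.snd h σ) ((EtCoh.pull σ).obj G) q)) :
    IsZero ((EtCoh.stalk (closedPt R ≫ σ)).obj ((EtCoh.Rpush h q).obj ((EtCoh.pull h).obj G))) := by
  haveI := Groth.Agent.S0073.result R ((EtCoh.pull σ).obj G) q hq
  obtain ⟨e⟩ := T.nonempty_stalk_Rpush_iso h q
  exact (subsingleton_H_of_iso
    ((EtLim24.pullT (pullback.snd h σ) σ (pullback.snd h σ ≫ σ) rfl).symm.app G ≪≫
      (EtLim24.pullT (pullback.fst h σ) h (pullback.snd h σ ≫ σ) pullback.condition).app G) q hb.2.subsingleton).of_iso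
        (e.app ((EtCoh.pull h).obj G))

theorem sec_congr (x : A ⟶ C) (F : EtCoh.Ab C) (U : C.Etale) {y y' : A ⟶ U.left} (e : y = y') (hy : y ≫ U.hom = x)
    (hy' : y' ≫ U.hom = x) (s : F.obj.obj (op U)) : sec x F U y hy s = sec x F U y' hy' s := by
  subst e; rfl

omit [HenselianLocalRing R] [IsSepClosed (IsLocalRing.ResidueField R)] in
theorem assoc_hom {A : Scheme.{u}} {B : Scheme.{u}} (a : A ⟶ B) {V : X'.Etale} (π : B ⟶ V.left) (σ' : B ⟶ X')
    (hπ : π ≫ V.hom = σ') : (a ≫ π) ≫ V.hom = a ≫ σ' := by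
  subst hπ; exact Category.assoc _ _ _

/-- Germs at the closed point of a section on the strict localisation. -/
theorem germ_top_sec (V : X'.Etale) (π : Spec (CommRingCat.of R) ⟶ V.left) (hπ : π ≫ V.hom = σ)
    (φ : fib (closedPt R ≫ σ) V) (hφ : φ.left = closedPt R ≫ π) (G : EtCoh.Ab X') (s : G.obj.obj (op V)) :
    stalkPull σ (closedPt R) G (germ (closedPt R ≫ σ) G φ s) =
      germ (closedPt R) ((EtCoh.pull σ).obj G) (topFib R) (sec σ G V π hπ s) := by
  refine (germ_stalkPull σ (closedPt R) G φ s).trans ?_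
  rw [sec_apply]
  refine Eq.trans ?_ (germ_map (closedPt R) ((EtCoh.pull σ).obj G) (topLift σ V π hπ) (topFib R) _).symm
  refine congrArg (fun z => germ (closedPt R) ((EtCoh.pull σ).obj G) z (((EtCoh.pullPushAdj σ).unit.app G).hom.app (op V) s))
    (Over.OverMorphism.ext (pullback.hom_ext ?_ ?_))
  · refine (pullback.lift_fst _ _ _).trans (hφ.trans ?_)
    exact ((Category.assoc _ _ _).trans (congrArg (closedPt R ≫ ·) (topLift_fst σ _ _ hπ))).symm
  · refine (pullback.lift_snd _ _ _).trans ?_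
    exact ((Category.assoc _ _ _).trans ((congrArg (closedPt R ≫ ·) (pullback.lift_snd _ _ _)).trans (Category.comp_id _))).symm

omit [HenselianLocalRing R] [IsSepClosed (IsLocalRing.ResidueField R)] in
theorem transpose_top {A B : Scheme.{u}} (v : A ⟶ B) {G : EtCoh.Ab B} {H : EtCoh.Ab A} (a : (EtCoh.pull v).obj G ⟶ H)
    (x : G.obj.obj (op (EtCoh.top B))) :
    H.obj.map (topUp v).op (((EtCoh.pullPushAdj v).homEquiv G H a).hom.app (op (EtCoh.top B)) x) =
      appTop a (sec v G (EtCoh.top B) v (Category.comp_id v) x) := by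
  rw [Adjunction.homEquiv_unit, appTop_eq]
  exact (NatTrans.naturality_apply a.hom (topUp v).op _).symm

omit [HenselianLocalRing R] [IsSepClosed (IsLocalRing.ResidueField R)] in
theorem gb_unit_aux {P B B' C : Scheme.{u}} (v : P ⟶ B) (u : B ⟶ C) (v' : P ⟶ B') (u' : B' ⟶ C)
    (e : v ≫ u = v' ≫ u') (F : EtCoh.Ab C) (U : C.Etale) (y : P ⟶ ((EtCoh.bc u).obj U).left)
    (hy : y ≫ ((EtCoh.bc u).obj U).hom = v) (π : B' ⟶ U.left) (hπ : π ≫ U.hom = u')
    (hyπ : y ≫ pullback.fst U.hom u = v' ≫ π) (s : F.obj.obj (op U)) :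
    jmap v u (v' ≫ u') e F
        (sec v ((EtCoh.pull u).obj F) ((EtCoh.bc u).obj U) y hy
          (((EtCoh.pullPushAdj u).unit.app F).hom.app (op U) s)) =
      jmap v' u' (v' ≫ u') rfl F
        (sec v' ((EtCoh.pull u').obj F) (EtCoh.top B') v' (Category.comp_id v') (sec u' F U π hπ s)) := by
  have hy₂ : (v' ≫ π) ≫ U.hom = v' ≫ u' := (Category.assoc _ _ _).trans (congrArg (v' ≫ ·) hπ)
  refine (sec_unit v u _ e F U y hy ((congrArg (· ≫ U.hom) hyπ).trans hy₂) s).trans ?_
  refine (sec_congr _ F _ hyπ _ hy₂ s).trans ?_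
  refine (sec_trans v' u' _ rfl F U π hπ hy₂ s).symm.trans ?_
  exact transpose_top v' _ _

/-- The two descriptions on the fibre product. -/
theorem gb_unit (T : StrictSys σ) (G : EtCoh.Ab X') (j : T.ι) (s : G.obj.obj (op (T.W.obj (op j))))
    {x : ((EtCoh.pull h).obj G).obj.obj (op ((EtCoh.bc h).obj (T.W.obj (op j))))}
    (hx : x = ((EtCoh.pullPushAdj h).unit.app G).hom.app (op (T.W.obj (op j))) s) :
    jmap (pullback.fst h σ) h (pullback.snd h σ ≫ σ) pullback.condition G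
        (sec (pullback.fst h σ) ((EtCoh.pull h).obj G) ((EtCoh.bc h).obj (T.W.obj (op j))) (T.yl h j) (T.yl_hom h j) x) =
      jmap (pullback.snd h σ) σ (pullback.snd h σ ≫ σ) rfl G
        (sec (pullback.snd h σ) ((EtCoh.pull σ).obj G) (EtCoh.top _) (pullback.snd h σ) (Category.comp_id _)
          (sec σ G (T.W.obj (op j)) (T.π.app (op j)) (T.hπ j) s)) := by
  subst hx
  exact gb_unit_aux (pullback.fst h σ) h (pullback.snd h σ) σ pullback.condition G (T.W.obj (op j)) (T.yl h j)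
    (T.yl_hom h j) (T.π.app (op j)) (T.hπ j) (T.yl_fst h j) s

theorem gb_apply (T : StrictSys σ) (H : EtCoh.Ab Xt) (j : T.ι) (x : H.obj.obj (op ((EtCoh.bc h).obj (T.W.obj (op j))))) :
    T.gb h H j x =
      sec (pullback.fst h σ) H ((EtCoh.bc h).obj (T.W.obj (op j))) (T.yl h j) (T.yl_hom h j) x := rfl

omit [QuasiCompact h] [QuasiSeparated h] in
/-- Germs come from the neighbourhoods. -/
theorem exists_stage_germ (T : StrictSys σ) (G : EtCoh.Ab X') (p : (EtCoh.stalk (closedPt R ≫ σ)).obj G) :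
    ∃ (j : T.ι) (s : G.obj.obj (op (T.W.obj (op j)))), germ (closedPt R ≫ σ) G (T.φ j) s = p := by
  obtain ⟨V, v, t, rfl⟩ := germ_surjective (closedPt R ≫ σ) G p
  obtain ⟨l, hl, hlv⟩ := exists_lift σ V v
  obtain ⟨j, m, hm⟩ := T.exists_stage_map V l hl
  refine ⟨j, G.obj.map m.op t, (germ_map (closedPt R ≫ σ) G m (T.φ j) t).trans ?_⟩
  exact congrArg (fun z => germ (closedPt R ≫ σ) G z t)
    (Over.OverMorphism.ext ((Category.assoc _ _ _).trans ((congrArg (closedPt R ≫ ·) hm).trans hlv)))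

theorem square_val {α β γ δ ε ζ : Type*} (st : α → β) (e : β → γ) (J₁ : γ → ζ) (Φ : α → δ) (sn : δ → ε) (J₂ : ε → ζ)
    {p : α} {q : β} {r : γ} {d : δ} (h₁ : st p = q) (h₂ : e q = r) (h₃ : J₁ r = J₂ (sn d)) (h₄ : Φ p = d) :
    J₁ (e (st p)) = J₂ (sn (Φ p)) := by
  rw [h₁, h₂, h₃, h₄]

/-- Bijectivity of the unit on a stalk. -/
theorem bijective_stalk_unit (T : StrictSys σ) (G : EtCoh.Ab X')
    (hb : Function.Bijective (EtCore.Hpull (pullback.snd h σ) ((EtCoh.pull σ).obj G) 0)) :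
    Function.Bijective ((EtCoh.stalk (closedPt R ≫ σ)).map ((EtCoh.pullPushAdj h).unit.app G)) := by
  obtain ⟨e₀, he₀⟩ := T.exists_iso₀ h ((EtCoh.pull h).obj G)
  let g := Equiv.ofBijective _ (bijective_germ_top R ((EtCoh.pull σ).obj G))
  refine EtAcyc24.bijective_of_square _
    (fun p => jmap (pullback.fst h σ) h (pullback.snd h σ ≫ σ) pullback.condition G (e₀.hom p))
    (fun p => g.symm (stalkPull σ (closedPt R) G p))
    (sec (pullback.snd h σ) ((EtCoh.pull σ).obj G) (EtCoh.top _) (pullback.snd h σ) (Category.comp_id _))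
    (jmap (pullback.snd h σ) σ (pullback.snd h σ ≫ σ) rfl G) (fun p => ?_)
    ((bijective_jmap (pullback.fst h σ) h _ pullback.condition G).comp
      (ConcreteCategory.bijective_of_isIso e₀.hom))
    (g.symm.bijective.comp (ConcreteCategory.bijective_of_isIso (stalkPull σ (closedPt R) G)))
    (bijective_sec_top (pullback.snd h σ) ((EtCoh.pull σ).obj G) hb)
    (bijective_jmap (pullback.snd h σ) σ _ rfl G)
  obtain ⟨j, s, rfl⟩ := exists_stage_germ T G p
  have hL : (EtCoh.stalk (closedPt R ≫ σ)).map ((EtCoh.pullPushAdj h).unit.app G)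
      (germ (closedPt R ≫ σ) G (T.φ j) s) =
      T.ga h ((EtCoh.pull h).obj G) j (((EtCoh.pullPushAdj h).unit.app G).hom.app (op (T.W.obj (op j))) s) :=
    germ_nat (closedPt R ≫ σ) ((EtCoh.pullPushAdj h).unit.app G) (T.φ j) s
  have hg : g.symm (stalkPull σ (closedPt R) G (germ (closedPt R ≫ σ) G (T.φ j) s)) =
      sec σ G (T.W.obj (op j)) (T.π.app (op j)) (T.hπ j) s :=
    g.symm_apply_eq.2 (germ_top_sec _ (T.π.app (op j)) (T.hπ j) (T.φ j) rfl G s)
  exact square_val ((EtCoh.stalk (closedPt R ≫ σ)).map ((EtCoh.pullPushAdj h).unit.app G)) e₀.hom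
    (jmap (pullback.fst h σ) h (pullback.snd h σ ≫ σ) pullback.condition G)
    (fun p => g.symm (stalkPull σ (closedPt R) G p))
    (sec (pullback.snd h σ) ((EtCoh.pull σ).obj G) (EtCoh.top _) (pullback.snd h σ) (Category.comp_id _))
    (jmap (pullback.snd h σ) σ (pullback.snd h σ ≫ σ) rfl G)
    hL ((ConcreteCategory.congr_hom (he₀ j) _).trans (gb_apply h T _ j _)) (gb_unit h T G j s rfl) hg

end Groth.Agent.NearLA6
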