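import Groth.Agent.Lib.NearLA6.Point
import Groth.Agent.Lib.NearLA6.Sections
import Groth.Agent.Lib.LocAcyc24.Transport
import Groth.Agent.Lib.LocAcyc24.Rel
import Groth.Prelude.Def_SGA4h

/-! # Local acyclicity on the strict localisations of the closed fibre -/

set_option autoImplicit false
universe u
set_option backward.isDefEq.respectTransparency.types false
set_option linter.style.haveILetI false

open CategoryTheory CategoryTheory.Limits AlgebraicGeometry Opposite IsLocalRing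
open scoped TensorProduct

namespace Groth.Agent.NearLA6

open Groth.Agent.EtStalk Groth.Agent.StrictLim24

variable {X S : Scheme.{u}} {f : X ⟶ S} {F : EtCoh.Ab X}

set_option maxHeartbeats 1000000 in
/-- The geometric fibres of a strict localisation are acyclic. -/
theorem bijective_Hpull_fibre (hla : SGA4h.IsLARel f F) {x : X} {RS : Type u} [CommRing RS] [IsLocalRing RS]
    [Algebra (S.presheaf.stalk (f x)) RS] [IsLocalHom (algebraMap (S.presheaf.stalk (f x)) RS)]
    [Hensel.IsStrictHenselization (S.presheaf.stalk (f x)) RS]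
    {R : Type u} [CommRing R] [HenselianLocalRing R] [IsSepClosed (ResidueField R)] [Algebra (X.presheaf.stalk x) R]
    [IsLocalHom (algebraMap (X.presheaf.stalk x) R)] [Hensel.IsStrictHenselization (X.presheaf.stalk x) R]
    (ψ : RS →+* R) [IsLocalHom ψ]
    (hψ : Spec.map (CommRingCat.ofHom ψ) ≫ Hens2.specOf S (f x) RS = Hens2.specOf X x R ≫ f)
    {X' : Scheme.{u}} {f' : X' ⟶ Spec (CommRingCat.of RS)} {p : X' ⟶ X}
    (σ : Spec (CommRingCat.of R) ⟶ X') (hσp : σ ≫ p = Hens2.specOf X x R)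
    (hσf : σ ≫ f' = Spec.map (CommRingCat.ofHom ψ))
    {Ω : Type u} [Field Ω] [IsSepClosed Ω] (τ : RS →+* Ω) {Xt : Scheme.{u}} {h : Xt ⟶ X'}
    {ft : Xt ⟶ Spec (CommRingCat.of Ω)} (ct : IsPullback h ft f' (Spec.map (CommRingCat.ofHom τ))) (q : ℕ) :
    Function.Bijective (EtCore.Hpull (pullback.snd h σ) ((EtCoh.pull σ).obj ((EtCoh.pull p).obj F)) q) := by
  letI := ψ.toAlgebra
  letI := τ.toAlgebra
  haveI : IsLocalHom (algebraMap RS R) := ‹IsLocalHom ψ›
  let ρ : Spec (CommRingCat.of (R ⊗[RS] Ω)) ⟶ Spec (CommRingCat.of R) :=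
    Spec.map (CommRingCat.ofHom (algebraMap R (R ⊗[RS] Ω)))
  have h1 : Function.Bijective (EtCore.Hpull ρ ((EtCoh.pull (Hens2.specOf X x R)).obj F) q) :=
    hla x RS R ((LocAcyc24.specOf_compat f ψ).2 hψ) Ω q
  have h2 : Function.Bijective (EtCore.Hpull ρ ((EtCoh.pull σ).obj ((EtCoh.pull p).obj F)) q) :=
    LocAcyc24.bijective_Hpull_of_iso ρ ((EtLim24.pullT σ p _ hσp).app F).symm q h1
  have sq : IsPullback (pullback.snd h σ) (pullback.fst h σ ≫ ft) (Spec.map (CommRingCat.ofHom (algebraMap RS R)))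
      (Spec.map (CommRingCat.ofHom (algebraMap RS Ω))) := by
    have h0 := ((IsPullback.of_hasPullback h σ).paste_horiz ct.flip).flip
    rwa [hσf] at h0
  let ε : pullback h σ ≅ Spec (CommRingCat.of (R ⊗[RS] Ω)) := sq.isoPullback ≪≫ pullbackSpecIso RS R Ω
  have hε : ε.hom ≫ ρ = pullback.snd h σ := by
    show (sq.isoPullback.hom ≫ (pullbackSpecIso RS R Ω).hom) ≫ ρ = _
    rw [Category.assoc, pullbackSpecIso_hom_fst', IsPullback.isoPullback_hom_fst]
  rw [← hε, EtAcyc24.Hpull_comp_eq]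
  exact (EtAcyc24.bijective_comp_iso _ q).comp ((LocAcyc24.bijective_Hpull_of_isIso ε.hom _ q).comp h2)

/-- A map of sheaves bijective on a stalk has bijective inverse image on the stalk above. -/
theorem bijective_stalk_pull {A B : Scheme.{u}} (i : A ⟶ B) {K : Type u} [Field K] [IsSepClosed K]
    (ζ : Spec (CommRingCat.of K) ⟶ A) {G G' : EtCoh.Ab B} (a : G ⟶ G')
    (h : Function.Bijective ((EtCoh.stalk (ζ ≫ i)).map a)) :
    Function.Bijective ((EtCoh.stalk ζ).map ((EtCoh.pull i).map a)) := by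
  have hG : Function.Bijective (stalkPull i ζ G) := ConcreteCategory.bijective_of_isIso _
  have hG' : Function.Bijective (stalkPull i ζ G') := ConcreteCategory.bijective_of_isIso _
  refine (Function.Bijective.of_comp_iff _ hG).1 ?_
  have e : ⇑((EtCoh.stalk ζ).map ((EtCoh.pull i).map a)) ∘ ⇑(stalkPull i ζ G) =
      ⇑(stalkPull i ζ G') ∘ ⇑((EtCoh.stalk (ζ ≫ i)).map a) :=
    funext fun p => ConcreteCategory.congr_hom (stalkPull_nat i ζ a) p
  rw [e]
  exact hG'.comp h

theorem bijective_stalk_pull_eq {A B : Scheme.{u}} (i : A ⟶ B) {K : Type u} [Field K] [IsSepClosed K]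
    (ζ : Spec (CommRingCat.of K) ⟶ A) (ξ : Spec (CommRingCat.of K) ⟶ B) (e : ζ ≫ i = ξ) {G G' : EtCoh.Ab B} (a : G ⟶ G')
    (h : Function.Bijective ((EtCoh.stalk ξ).map a)) : Function.Bijective ((EtCoh.stalk ζ).map ((EtCoh.pull i).map a)) := by
  subst e; exact bijective_stalk_pull i ζ a h

theorem isZero_stalk_pull_eq {A B : Scheme.{u}} (i : A ⟶ B) {K : Type u} [Field K] [IsSepClosed K]
    (ζ : Spec (CommRingCat.of K) ⟶ A) (ξ : Spec (CommRingCat.of K) ⟶ B) (e : ζ ≫ i = ξ) (G : EtCoh.Ab B)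
    (h : IsZero ((EtCoh.stalk ξ).obj G)) : IsZero ((EtCoh.stalk ζ).obj ((EtCoh.pull i).obj G)) := by
  subst e
  exact h.of_iso (asIso (stalkPull i ζ G)).symm

/-- The stalks over one point of the closed fibre. -/
theorem stalk_facts {s : S} {RS : Type u} [CommRing RS] [IsLocalRing RS] [Algebra (S.presheaf.stalk s) RS]
    [IsLocalHom (algebraMap (S.presheaf.stalk s) RS)] [Hensel.IsStrictHenselization (S.presheaf.stalk s) RS]
    (hla : SGA4h.IsLARel f F) {X' : Scheme.{u}} {f' : X' ⟶ Spec (CommRingCat.of RS)} {p : X' ⟶ X}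
    (cX : IsPullback p f' f (Hens2.specOf S s RS))
    {Ω : Type u} [Field Ω] [IsSepClosed Ω] (τ : RS →+* Ω) {Xt : Scheme.{u}} {h : Xt ⟶ X'}
    {ft : Xt ⟶ Spec (CommRingCat.of Ω)} (ct : IsPullback h ft f' (Spec.map (CommRingCat.ofHom τ)))
    [QuasiCompact h] [QuasiSeparated h]
    {Xs : Scheme.{u}} {i : Xs ⟶ X'} {fs : Xs ⟶ Spec (CommRingCat.of (ResidueField RS))}
    (cs : IsPullback i fs f' (Spec.map (CommRingCat.ofHom (residue RS)))) (z : Xs) :
    ∃ (K : Type u) (_ : Field K) (_ : IsSepClosed K) (ζ : Spec (CommRingCat.of K) ⟶ Xs), ζ default = z ∧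
      Function.Bijective ((EtCoh.stalk ζ).map ((EtCoh.pull i).map ((EtCoh.pullPushAdj h).unit.app ((EtCoh.pull p).obj F)))) ∧
      ∀ q : ℕ, 0 < q → IsZero ((EtCoh.stalk ζ).obj ((EtCoh.pull i).obj
        ((EtCoh.Rpush h q).obj ((EtCoh.pull h).obj ((EtCoh.pull p).obj F))))) := by
  obtain ⟨x, R, _, _, _, _, _, _, ψ, _, σ, ζ, hs, hσp, hσf, hψ, hζ, hz⟩ := exists_model f cX cs z
  obtain ⟨T⟩ := nonempty_strictSys f cX ψ σ hσp hσf
  subst hs
  exact ⟨_, inferInstance, inferInstance, ζ, hz,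
    bijective_stalk_pull_eq i ζ _ hζ _ (bijective_stalk_unit h T _ (bijective_Hpull_fibre hla ψ hψ σ hσp hσf τ ct 0)),
    fun q hq => isZero_stalk_pull_eq i ζ _ hζ _
      (isZero_stalk_Rpush h T _ q hq (bijective_Hpull_fibre hla ψ hψ σ hσp hσf τ ct q))⟩

end Groth.Agent.NearLA6
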