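import Groth.Agent.Lib.LocAcyc24.SHPoint
import Groth.Agent.Lib.StrictLim24.System
import Groth.Agent.Lib.Hens.Henselization
import Groth.Agent.Lib.EtStalk.Henselian
import Mathlib.AlgebraicGeometry.ResidueField
import Mathlib.FieldTheory.IsSepClosed
import Mathlib.FieldTheory.IsAlgClosed.AlgebraicClosure

/-! # Strict localisations at points of the closed fibre over a strict localisation -/

set_option autoImplicit false
universe u
set_option backward.isDefEq.respectTransparency.types false
set_option linter.style.haveILetI false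

open CategoryTheory CategoryTheory.Limits AlgebraicGeometry IsLocalRing

namespace Groth.Agent.NearLA6

open Groth.Agent.LocAcyc24 Groth.Agent.EtStalk Groth.Agent.Hens

variable {X S : Scheme.{u}} (f : X ⟶ S) {s : S} {RS : Type u} [CommRing RS] [IsLocalRing RS]
  [Algebra (S.presheaf.stalk s) RS] [IsLocalHom (algebraMap (S.presheaf.stalk s) RS)]
  [Hensel.IsStrictHenselization (S.presheaf.stalk s) RS]
  {X' : Scheme.{u}} {f' : X' ⟶ Spec (CommRingCat.of RS)} {p : X' ⟶ X}

theorem mem_range_of_separable {k κ L : Type u} [Field k] [Field κ] [Field L] [IsSepClosed κ]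
    [Algebra k κ] [Algebra κ L] [Algebra k L] [IsScalarTower k κ L] {z : L} (hz : IsSeparable k z) :
    z ∈ (algebraMap κ L).range := by
  have hs : IsSeparable κ z := hz.tower_top κ
  exact minpoly.mem_range_of_degree_eq_one κ _
    (IsSepClosed.degree_eq_one_of_irreducible κ (minpoly.irreducible hs.isIntegral) hs)

theorem exists_stalk_hom {X X' : Scheme.{u}} (p : X' ⟶ X) (x' : X') (x : X) (h : p x' = x) :
    ∃ f₁ : X.presheaf.stalk x →+* X'.presheaf.stalk x', IsLocalHom f₁ ∧
      Spec.map (CommRingCat.ofHom f₁) ≫ X.fromSpecStalk x = X'.fromSpecStalk x' ≫ p := by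
  subst h
  refine ⟨(p.stalkMap x').hom, inferInstance, ?_⟩
  rw [CommRingCat.ofHom_hom, Scheme.SpecMap_stalkMap_fromSpecStalk]

/-- A strict henselization of `X'` at a point from one of `X`. -/
theorem nonempty_strictSys (cX : IsPullback p f' f (Hens2.specOf S s RS)) {x : X} {R : Type u} [CommRing R]
    [HenselianLocalRing R] [IsSepClosed (ResidueField R)] [Algebra (X.presheaf.stalk x) R]
    [IsLocalHom (algebraMap (X.presheaf.stalk x) R)] [Hensel.IsStrictHenselization (X.presheaf.stalk x) R]
    (ψ : RS →+* R) [IsLocalHom ψ] (σ : Spec (CommRingCat.of R) ⟶ X') (hσp : σ ≫ p = Hens2.specOf X x R)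
    (hσf : σ ≫ f' = Spec.map (CommRingCat.ofHom ψ)) : Nonempty (StrictLim24.StrictSys σ) := by
  let x' := σ (closedPoint R)
  obtain ⟨a', ha', hσ⟩ := exists_localHom (x := x') σ rfl
  letI : Algebra (X'.presheaf.stalk x') R := a'.toAlgebra
  haveI : IsLocalHom (algebraMap (X'.presheaf.stalk x') R) := ha'
  have hx : p x' = x := by
    have := congrArg (fun m : Spec (CommRingCat.of R) ⟶ X => m (closedPoint R)) hσp
    exact this.trans specOf_closedPoint
  obtain ⟨f₁, hf₁, hf₁a⟩ := exists_stalk_hom p x' x hx
  have halg : a'.comp f₁ = algebraMap (X.presheaf.stalk x) R := ringHom_ext_specOf (by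
    rw [CommRingCat.ofHom_comp, Spec.map_comp, Category.assoc, hf₁a, ← Category.assoc, hσ, hσp])
  haveI hsh : Hensel.IsStrictHenselization (X'.presheaf.stalk x') R := by
    have h0 := Hensel.IsStrictHenselization.isSepClosure (R := X.presheaf.stalk x) (S := R)
    refine ⟨inferInstance, ⟨‹IsSepClosed (ResidueField R)›, ?_⟩, ?_⟩
    · letI : Algebra (ResidueField (X.presheaf.stalk x)) (ResidueField (X'.presheaf.stalk x')) :=
        (ResidueField.map f₁).toAlgebra
      haveI : IsScalarTower (ResidueField (X.presheaf.stalk x)) (ResidueField (X'.presheaf.stalk x'))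
          (ResidueField R) := IsScalarTower.of_algebraMap_eq fun z => by
        obtain ⟨a, rfl⟩ := residue_surjective z
        exact congrArg (residue R) (RingHom.congr_fun halg a).symm
      haveI := h0.separable
      exact Algebra.isSeparable_tower_top_of_isSeparable (ResidueField (X.presheaf.stalk x))
        (ResidueField (X'.presheaf.stalk x')) (ResidueField R)
    · intro T _ _ q _ τ hτ
      haveI : IsLocalHom (q.comp f₁) := RingHom.isLocalHom_comp _ _
      have hτX : τ.comp (ResidueField.map (algebraMap (X.presheaf.stalk x) R)) = ResidueField.map (q.comp f₁) := by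
        refine Ideal.Quotient.ringHom_ext (RingHom.ext fun a => ?_)
        show τ (residue R (algebraMap (X.presheaf.stalk x) R a)) = residue T (q (f₁ a))
        rw [← RingHom.congr_fun halg a]
        exact RingHom.congr_fun hτ (residue _ (f₁ a))
      obtain ⟨g, hgl, hgX, hgs, hgr⟩ := exists_lift_residue (R := R) (q.comp f₁) τ hτX
      let a := Spec.map (CommRingCat.ofHom q) ≫ X'.fromSpecStalk x'
      have hap : a ≫ p = (Spec.map (CommRingCat.ofHom g) ≫ σ) ≫ p := by
        rw [Category.assoc, Category.assoc, hσp, hgs, ← hf₁a, CommRingCat.ofHom_comp, Spec.map_comp,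
          Category.assoc]
      have hres : Spec.map (CommRingCat.ofHom (residue T)) ≫ a =
          Spec.map (CommRingCat.ofHom (residue T)) ≫ Spec.map (CommRingCat.ofHom g) ≫ σ := by
        have h1 : (residue T).comp q = (τ.comp (residue R)).comp a' :=
          RingHom.ext fun b => (RingHom.congr_fun hτ (residue _ b)).symm
        have h2 : (residue T).comp g = τ.comp (residue R) := RingHom.ext hgr
        show Spec.map _ ≫ Spec.map _ ≫ X'.fromSpecStalk x' = _
        rw [← Spec.map_comp_assoc, ← Spec.map_comp_assoc, ← CommRingCat.ofHom_comp, ← CommRingCat.ofHom_comp, h1, h2,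
          CommRingCat.ofHom_comp, Spec.map_comp_assoc, hσ]
      have haf : a ≫ f' = (Spec.map (CommRingCat.ofHom g) ≫ σ) ≫ f' := by
        obtain ⟨φ, hφ⟩ := Spec.map_surjective (a ≫ f')
        have e1 : (Spec.map (CommRingCat.ofHom g) ≫ σ) ≫ f' = Spec.map (CommRingCat.ofHom (g.comp ψ)) := by
          rw [Category.assoc, hσf, ← Spec.map_comp, ← CommRingCat.ofHom_comp]
        haveI : IsLocalHom (g.comp ψ) := RingHom.isLocalHom_comp _ _
        have e2 : φ.hom = g.comp ψ := LocAcyc24.hom_ext (g.comp ψ) φ.hom (by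
          rw [CommRingCat.ofHom_hom, hφ, ← e1, Category.assoc, Category.assoc (Spec.map _ ≫ σ), ← cX.w,
            ← Category.assoc, hap, Category.assoc]) fun r => by
          have h3 := congrArg (· ≫ f') hres
          simp only [Category.assoc] at h3
          rw [← hφ, hσf, ← Spec.map_comp, ← Spec.map_comp, ← Spec.map_comp] at h3
          exact RingHom.congr_fun (congrArg CommRingCat.Hom.hom (Spec.map_injective h3)) r
        rw [← hφ, e1, ← e2, CommRingCat.ofHom_hom]
      have hga : g.comp a' = q := ringHom_ext_specOf (by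
        rw [CommRingCat.ofHom_comp, Spec.map_comp, Category.assoc, hσ]
        exact (cX.hom_ext hap haf).symm)
      refine ⟨g, ⟨hga, hgr⟩, fun g' hg' => ?_⟩
      obtain ⟨g'', -, huniq⟩ := Hensel.IsStrictHenselization.universal (R := X.presheaf.stalk x) (S := R) T
        (q.comp f₁) τ hτX
      refine (huniq g' ⟨?_, hg'.2⟩).trans (huniq g ⟨hgX, hgr⟩).symm
      rw [← halg, ← RingHom.comp_assoc]
      exact congrArg (RingHom.comp · f₁) hg'.1
  obtain ⟨T⟩ := StrictLim24.nonempty_strictSys X' x' R
  have e : Hens2.specOf X' x' R = σ := hσ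
  exact ⟨{ T with hπ := fun i => (T.hπ i).trans e }⟩

set_option maxHeartbeats 1000000 in
/-- Models at the points of the closed fibre. -/
theorem exists_model (cX : IsPullback p f' f (Hens2.specOf S s RS)) {Xs : Scheme.{u}} {i : Xs ⟶ X'}
    {fs : Xs ⟶ Spec (CommRingCat.of (ResidueField RS))}
    (cs : IsPullback i fs f' (Spec.map (CommRingCat.ofHom (residue RS)))) (z : Xs) :
    ∃ (x : X) (R : Type u) (_ : CommRing R) (_ : HenselianLocalRing R) (_ : IsSepClosed (ResidueField R))
      (_ : Algebra (X.presheaf.stalk x) R) (_ : IsLocalHom (algebraMap (X.presheaf.stalk x) R))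
      (_ : Hensel.IsStrictHenselization (X.presheaf.stalk x) R)
      (ψ : RS →+* R) (_ : IsLocalHom ψ) (σ : Spec (CommRingCat.of R) ⟶ X')
      (ζ : Spec (CommRingCat.of (ResidueField R)) ⟶ Xs),
      f x = s ∧ σ ≫ p = Hens2.specOf X x R ∧ σ ≫ f' = Spec.map (CommRingCat.ofHom ψ) ∧
      Spec.map (CommRingCat.ofHom ψ) ≫ Hens2.specOf S s RS = Hens2.specOf X x R ≫ f ∧
      ζ ≫ i = closedPt R ≫ σ ∧ ζ default = z := by
  let x := p (i z)
  have hs : f x = s := by
    have h1 : f' (i z) = closedPoint RS := by
      rw [← Scheme.Hom.comp_apply, cs.w, Scheme.Hom.comp_apply, Subsingleton.elim (fs z) (closedPoint _)]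
      exact IsLocalRing.comap_closedPoint (residue RS)
    show f (p (i z)) = s
    rw [← Scheme.Hom.comp_apply, cX.w, Scheme.Hom.comp_apply, h1]
    exact specOf_closedPoint
  refine ⟨x, ?_⟩
  subst hs
  let Ox : Type u := X.presheaf.stalk x
  let κb := ResidueField Ox
  let R := Hsh Ox
  haveI : IsSepClosed (ResidueField R) :=
    (Hensel.IsStrictHenselization.isSepClosure (R := Ox) (S := R)).sep_closed
  let κR := ResidueField R
  let L : Type u := AlgebraicClosure (Xs.residueField z)
  let ω : Spec (CommRingCat.of L) ⟶ Xs :=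
    Spec.map (CommRingCat.ofHom (algebraMap (Xs.residueField z) L)) ≫ Xs.fromSpecResidueField z
  have hω : ω default = z := by
    show Xs.fromSpecResidueField z _ = z
    exact Scheme.fromSpecResidueField_apply _ _
  obtain ⟨fL, hfLl, hfL⟩ := exists_localHom (x := x) (ω ≫ i ≫ p) (by
    show p (i (ω (closedPoint L))) = x
    exact congrArg (fun y => p (i y)) ((congrArg ω.base (Subsingleton.elim _ _)).trans hω))
  let ρ : ResidueField RS →+* L := (Spec.preimage (ω ≫ fs)).hom
  have hρ : Spec.map (CommRingCat.ofHom ρ) = ω ≫ fs := by rw [CommRingCat.ofHom_hom, Spec.map_preimage]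
  letI : Algebra κb L := (ResidueField.lift fL).toAlgebra
  haveI := (Hensel.IsStrictHenselization.isSepClosure (R := Ox) (S := R)).separable
  let ι : κR →ₐ[κb] L := IsAlgClosed.lift
  letI : Algebra κR L := ι.toRingHom.toAlgebra
  let κs := ResidueField (S.presheaf.stalk (f x))
  have hρs : ∀ a : S.presheaf.stalk (f x),
      ρ (residue RS (algebraMap _ RS a)) = fL ((f.stalkMap x).hom a) := by
    refine RingHom.congr_fun (ringHom_ext_specOf (f := (ρ.comp (residue RS)).comp (algebraMap _ RS))
      (g := fL.comp (f.stalkMap x).hom) ?_)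
    calc _ = Spec.map (CommRingCat.ofHom ρ) ≫ Spec.map (CommRingCat.ofHom (residue RS)) ≫ Hens2.specOf S (f x) RS := by
          simp only [Hens2.specOf, CommRingCat.ofHom_comp, Spec.map_comp, Category.assoc]
      _ = ω ≫ i ≫ p ≫ f := by
          rw [hρ, Category.assoc, ← reassoc_of% cs.w, ← cX.w]
      _ = _ := by
          rw [CommRingCat.ofHom_comp, CommRingCat.ofHom_hom, Spec.map_comp]
          simp only [Category.assoc]
          rw [Scheme.SpecMap_stalkMap_fromSpecStalk, reassoc_of% hfL]
  letI : Algebra κs κR := ((algebraMap κb κR).comp (ResidueField.map (f.stalkMap x).hom)).toAlgebra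
  letI : Algebra κs L := ((algebraMap κb L).comp (ResidueField.map (f.stalkMap x).hom)).toAlgebra
  haveI : IsScalarTower κs κR L := IsScalarTower.of_algebraMap_eq fun a => (ι.commutes _).symm
  have hmem : ∀ w : ResidueField RS, ∃ y : κR, ι y = ρ w := by
    intro w
    haveI := (Hensel.IsStrictHenselization.isSepClosure (R := S.presheaf.stalk (f x)) (S := RS)).separable
    let ρa : ResidueField RS →ₐ[κs] L :=
      { ρ with
        commutes' := fun a => by
          obtain ⟨a, rfl⟩ := residue_surjective a
          exact hρs a }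
    obtain ⟨y, hy⟩ := mem_range_of_separable (κ := κR) (IsSeparable.map ρa ρa.toRingHom.injective (Algebra.IsSeparable.isSeparable κs w))
    exact ⟨y, hy⟩
  choose τ₀ hτ₀ using hmem
  let τ : ResidueField RS →+* κR :=
    { toFun := τ₀
      map_one' := ι.toRingHom.injective (by simp [hτ₀])
      map_mul' := fun a b => ι.toRingHom.injective (by simp [hτ₀])
      map_zero' := ι.toRingHom.injective (by simp [hτ₀])
      map_add' := fun a b => ι.toRingHom.injective (by simp [hτ₀]) }
  have hιτ : ι.toRingHom.comp τ = ρ := RingHom.ext hτ₀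
  let f₀ : S.presheaf.stalk (f x) →+* R := (algebraMap Ox R).comp (f.stalkMap x).hom
  haveI : IsLocalHom f₀ := RingHom.isLocalHom_comp _ _
  obtain ⟨ψ, hψl, hψS, hψs, hψr⟩ := exists_lift_residue (R := RS) f₀ τ (by
    refine Ideal.Quotient.ringHom_ext (RingHom.ext fun a => ι.toRingHom.injective ?_)
    show ι (τ₀ (residue RS (algebraMap _ RS a))) = ι (residue R (algebraMap Ox R ((f.stalkMap x).hom a)))
    rw [hτ₀, hρs]
    exact (ι.commutes (residue Ox ((f.stalkMap x).hom a))).symm)
  have hψw : Spec.map (CommRingCat.ofHom ψ) ≫ Hens2.specOf S (f x) RS = Hens2.specOf X x R ≫ f :=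
    (specOf_compat f ψ).1 hψS
  let σ := cX.lift (Hens2.specOf X x R) (Spec.map (CommRingCat.ofHom ψ)) hψw.symm
  have hcl : (closedPt R ≫ σ) ≫ f' = Spec.map (CommRingCat.ofHom τ) ≫ Spec.map (CommRingCat.ofHom (residue RS)) := by
    rw [Category.assoc, cX.lift_snd, ← Spec.map_comp, ← Spec.map_comp]
    exact congrArg Spec.map (CommRingCat.hom_ext (RingHom.ext fun r => hψr r))
  let ζ := cs.lift (closedPt R ≫ σ) (Spec.map (CommRingCat.ofHom τ)) hcl
  have hζω : Spec.map (CommRingCat.ofHom ι.toRingHom) ≫ ζ = ω := by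
    have e1 : (Spec.map (CommRingCat.ofHom ι.toRingHom) ≫ ζ) ≫ fs = ω ≫ fs := by
      rw [Category.assoc, cs.lift_snd, ← Spec.map_comp, ← CommRingCat.ofHom_comp, hιτ, hρ]
    refine cs.hom_ext ?_ e1
    rw [Category.assoc, cs.lift_fst]
    refine cX.hom_ext ?_ ?_
    · simp only [σ, Category.assoc, cX.lift_fst]
      rw [← hfL, Hens2.specOf, ← Spec.map_comp_assoc, ← Spec.map_comp_assoc]
      congr 2
      exact CommRingCat.hom_ext (RingHom.ext fun a => ι.commutes (residue Ox a))
    · rw [Category.assoc, hcl, Category.assoc, cs.w, ← Category.assoc ω, ← e1, Category.assoc, Category.assoc,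
        cs.lift_snd_assoc]
  refine ⟨R, inferInstance, inferInstance, inferInstance, inferInstance, inferInstance, inferInstance, ψ, hψl, σ, ζ,
    rfl, cX.lift_fst _ _ _, cX.lift_snd _ _ _, hψw, cs.lift_fst _ _ _, ?_⟩
  rw [← hω, ← hζω, Scheme.Hom.comp_apply]
  exact congrArg ζ.base (Subsingleton.elim _ _)

end Groth.Agent.NearLA6
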